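import Cfsg.Agent.OddHalf.D9.Label
import Cfsg.Agent.KFacts.SuzOut
import Cfsg.Agent.SporRec.SuzCl.Inv

/-!
# D9, row `2.Suz`: the facts on the simple quotient
-/

set_option autoImplicit false
set_option maxRecDepth 100000
set_option exponentiation.threshold 4000

namespace Cfsg.Agent.OddHalf.D9.QDSuz

open Subgroup Cfsg.Spor Cfsg.Agent.Lib.PermNet Cfsg.Agent.Lib.PermNetOrbit Cfsg.Agent.SporadicRecognition.SuzPhi
  Cfsg.Agent.SporadicRecognition.SuzOrder Cfsg.Agent.SuzThree.Basic Cfsg.Agent.SuzThree.CentA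
  Cfsg.Agent.SuzThree.QZero Cfsg.Agent.KFacts.SuzCent Cfsg.Agent.KFacts.SuzR Cfsg.Agent.KFacts.SuzSheet
  Cfsg.Agent.KFacts.Codes Cfsg.Agent.KFacts.Orbits Cfsg.Agent.KFacts.SuzLarge Cfsg.Agent.KFacts.SuzOut
  Cfsg.Agent.LargeExtra.Model Cfsg.Agent.OddHalf.D9.Kill
open Cfsg.Agent.SporRec.SuzCl (ia ie)

theorem z0_eq : z0 = ia := mul_one _

theorem Ce_eq : Ce z0 = C1 := by
  ext x
  rw [mem_Ce, mem_C1]

/-- the elements of `Q0` -/
theorem cases {y : Suz} (hy : y ∈ Q0) : y = 1 ∨ y = z0 ∨ (∃ h ∈ C1, h * C 1 * h⁻¹ = y) ∨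
    ∃ h ∈ C1, h * C 3 * h⁻¹ = y := by
  rw [Q0_eq] at hy
  obtain ⟨c, hc, rfl⟩ := (mem_RG rels tri).1 hy
  have hf := stage rels tri gg_mem C1_comm conj_AA ch0.1
  have h1 : ((run (stf BB 6 L0) t0 (2 ^ 1) ||| run (stf BB 6 L0) t6 (2 ^ 3)) |||
      (1 ||| 2 ^ (2 ^ 6))).testBit c = true := by
    rw [cover, Nat.testBit_two_pow_sub_one, decide_eq_true_eq]; exact hc
  rw [Nat.testBit_or, Nat.testBit_or, Nat.testBit_or, Bool.or_eq_true, Bool.or_eq_true,
    Bool.or_eq_true] at h1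
  rcases h1 with (h1 | h1) | (h1 | h1)
  · right; right; left
    exact run_conj hf t0 1 c h1
  · right; right; right
    exact run_conj hf t6 3 c h1
  · left
    have : c = 0 := by
      have h2 : (1 : ℕ).testBit c = decide (0 = c) := by
        rw [show (1 : ℕ) = 2 ^ 0 by norm_num, Nat.testBit_two_pow]
      rw [h2, decide_eq_true_eq] at h1
      exact h1.symm
    rw [this]
    exact cod_zero
  · right; left
    rw [Nat.testBit_two_pow, decide_eq_true_eq] at h1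
    rw [← h1]
    exact cod_z (n := 6)

theorem sq1 : C 1 * C 1 = 1 := by
  have h1 : C 1 * C 1 = C (mulc BB 6 1 1) := by rw [C, C, cod_mul rels tri]
  rw [h1, show mulc BB 6 1 1 = 0 by decide +kernel]
  exact cod_zero

theorem sq3 : C 3 * C 3 = z0 := by
  have h1 : C 3 * C 3 = C (mulc BB 6 3 3) := by rw [C, C, cod_mul rels tri]
  rw [h1, show mulc BB 6 3 3 = 64 by decide +kernel]
  exact C64

theorem conj_sq {G : Type*} [Group G] (h a : G) : h * a * h⁻¹ * (h * a * h⁻¹) = h * (a * a) * h⁻¹ := by group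

theorem comm_ie : ie * z0 = z0 * ie := by
  have h1 : ie = el [.e] := (mul_one _).symm
  rw [h1]
  exact comm_of (x := .e) (by decide +kernel)

/-- **The facts on `Suz`.** -/
theorem qd : Label.QD z0 ie Q0 where
  ii := z_sq
  i1 := z_ne
  two s h2 h1 := by
    rw [z0_eq]
    rcases SporRec.SuzCl.two s h2 h1 with ⟨g, hg⟩ | ⟨g, hg⟩
    · left
      exact ⟨g⁻¹, by rw [← hg]; group⟩
    · right
      exact ⟨g⁻¹, by rw [← hg]; group⟩
  perf := by
    have h1 : centralizer ({z0} : Set Suz) = Ce z0 := by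
      ext x
      rw [mem_centralizer_singleton_iff, mem_Ce]
    have h2 := perf
    rw [h1] at h2
    have h3 := congrArg (map (Ce z0).subtype) h2
    rw [_root_.commutator_def, map_commutator, ← MonoidHom.range_eq_map, range_subtype] at h3
    exact h3
  wP := ⟨1, by
    rw [one_mul, inv_one, mul_one]
    exact comm_ie⟩
  QP := by rw [Ce_eq]; exact Q0_le
  Qn g hg y hy := normal_R (by rw [← Ce_eq]; exact hg) hy
  Q2 := isPGroup_Q0
  Qmax N hN hn h2 := hR h2 (fun w hw => hN hw) (fun u hu w hw => hn u hu w hw)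
  Qinv y hy h2 h1 := by
    rcases cases hy with rfl | rfl | ⟨h, -, rfl⟩ | ⟨h, -, rfl⟩
    · exact absurd rfl h1
    · exact ⟨1, by group⟩
    · refine ⟨n0⁻¹ * h⁻¹, ?_⟩
      have h3 : n0⁻¹ * C 1 * n0 = z0 := by
        rw [C1', ← n0_conj]; group
      calc n0⁻¹ * h⁻¹ * (h * C 1 * h⁻¹) * (n0⁻¹ * h⁻¹)⁻¹ = n0⁻¹ * C 1 * n0 := by group
        _ = z0 := h3
    · exfalso
      rw [conj_sq, sq3] at h2
      apply z_ne
      calc z0 = h⁻¹ * (h * z0 * h⁻¹) * h := by group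
        _ = 1 := by rw [h2]; group
  Qsq _ hy := R_sq hy
  Qex := ⟨C 3, C_mem 3, sq3⟩
  Qtr y hy y' hy' h2 h2' := by
    have key : ∀ y ∈ Q0, y * y = z0 → ∃ h ∈ C1, h * C 3 * h⁻¹ = y := by
      intro y hy h2
      rcases cases hy with rfl | rfl | ⟨h, -, rfl⟩ | h
      · exact absurd (by rw [← h2, one_mul]) z_ne
      · exact absurd (h2.symm.trans z_sq) z_ne
      · rw [conj_sq, sq1] at h2
        exact absurd (by rw [← h2]; group) z_ne
      · exact h
    obtain ⟨h, hh, rfl⟩ := key y hy h2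
    obtain ⟨h', hh', rfl⟩ := key y' hy' h2'
    refine ⟨h' * h⁻¹, ?_, by group⟩
    rw [Ce_eq]
    exact C1.mul_mem hh' (C1.inv_mem hh)

end Cfsg.Agent.OddHalf.D9.QDSuz
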