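import Cfsg.Agent.KFacts.SuzLift.Two
import Cfsg.Agent.KFacts.SuzLFour

/-!
# D9, row `2.Suz`: the product of two lifts

`L → Suz` is a perfect double cover, `A = (F G)²` for lifts `F`, `G` of `f`, `g` (so `A` is a lift of `a`). `prod_eq`: for
the conjugates `C`, `F'` of `A` above `c` and `f`, the product `C F'` is `c` times a conjugate of `A` (helper687's words).
`mem_comm`: the central element is in the derived subgroup of the preimage of `⟨a, b, c, f, g⟩ ≅ L₃(4)`.
-/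

set_option autoImplicit false
set_option maxRecDepth 100000

namespace Cfsg.Agent.OddHalf.D9.SuzTriple

open Subgroup Cfsg Cfsg.Spor Cfsg.Agent.KFacts.MulDef Cfsg.Agent.KFacts.SuzLift.Sq Cfsg.Agent.KFacts.SuzLift.Two
  Cfsg.Agent.SuzThree.CentA Cfsg.Agent.SuzThree.Basic Cfsg.Agent.SuzThree.QZero
  Cfsg.Agent.SporadicRecognition.SuzPhi Cfsg.Agent.SporadicRecognition.SuzOrder Cfsg.Agent.Lib.PermNet
open Cfsg.Agent.KFacts.SuzLFour (eq_of word_mem_L gen_mem_L)
open scoped commutatorElement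

universe u

/-! ### Words -/

def wb : List Suz.Gen := [.a, .b, .a, .b]
def wc : List Suz.Gen := [.b, .c, .a, .b, .a, .b]
def wf : List Suz.Gen := [.b, .f, .a, .b, .a, .b]
def wt : List Suz.Gen := [.g, .b, .c, .a, .b, .f, .b, .c, .b, .a, .b]
def wu : List Suz.Gen := [.g, .b, .c, .a, .b, .f, .g, .c, .b, .a, .b]
def wg : List Suz.Gen := [.d] ++ h1 ++ [.d] ++ h2 ++ [.e] ++ h3 ++ [.d, .e] ++ h3 ++ h2 ++ [.d] ++ h1 ++ [.d]

theorem eb : el (wb ++ [.a] ++ wb.reverse) = el [.b] := eq_of (by decide +kernel)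
theorem ec : el (wc ++ [.a] ++ wc.reverse) = el [.c] := eq_of (by decide +kernel)
theorem ef : el (wf ++ [.a] ++ wf.reverse) = el [.f] := eq_of (by decide +kernel)
theorem et : el (wt ++ [.a] ++ wt.reverse) = el [.c, .f] := eq_of (by decide +kernel)
theorem eu : el ((wu ++ wg) ++ [.e, .f, .g] ++ (wu ++ wg).reverse) = el [.c, .f, .b] := eq_of (by decide +kernel)
theorem efg : el [.f, .g, .f, .g] = el [.a] := eq_of (by decide +kernel)
theorem ecf : el [.c, .f] = el [.f, .c] := eq_of (by decide +kernel)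
theorem eef : el [.e, .f] = el [.f, .e] := eq_of (by decide +kernel)
theorem eeg : el [.e, .g] = el [.g, .e] := eq_of (by decide +kernel)
theorem ecb : el [.c, .b, .c] = el [.b, .c, .b] := eq_of (by decide +kernel)
theorem efb : el [.f, .b, .f] = el [.b, .f, .b] := eq_of (by decide +kernel)
theorem eg : el ([.b, .g] ++ [.b] ++ [.g, .b]) = el [.g] := eq_of (by decide +kernel)

theorem conj_el (w v : List Suz.Gen) : el (w ++ v ++ w.reverse) = el w * el v * (el w)⁻¹ := by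
  rw [el_append, el_append, el_reverse]

variable {L : Type u} [Group L] {π : L →* Suz} {c : L}

/-- Two conjugates of a lift of `a` with the same image are equal. -/
theorem conj_eq (hD : Dbl π c) {A x y : L} (hA : π A = z0) (h : π (x * A * x⁻¹) = π (y * A * y⁻¹)) :
    x * A * x⁻¹ = y * A * y⁻¹ := by
  have h1 : A * (y⁻¹ * x) = (y⁻¹ * x) * A := by
    apply comm_lift hD hA
    rw [map_mul, map_mul, map_mul, map_mul, map_inv, map_inv, hA] at h
    rw [map_mul, map_inv]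
    calc (π y)⁻¹ * π x * z0 = (π y)⁻¹ * (π x * z0 * (π x)⁻¹) * π x := by group
      _ = (π y)⁻¹ * (π y * z0 * (π y)⁻¹) * π x := by rw [h]
      _ = z0 * ((π y)⁻¹ * π x) := by group
  calc x * A * x⁻¹ = y * ((y⁻¹ * x) * A) * x⁻¹ := by group
    _ = y * (A * (y⁻¹ * x)) * x⁻¹ := by rw [h1]
    _ = y * A * y⁻¹ := by group

/-- A lift of an involution of class 2A commutes with the lifts of the elements commuting with the involution. -/
theorem comm_of (hD : Dbl π c) {X Y : L} {g : Suz} (hX : π X = g * z0 * g⁻¹) (h : π X * π Y = π Y * π X) :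
    X * Y = Y * X := by
  obtain ⟨k, rfl⟩ := hD.surj g
  have h1 := comm_lift hD (x := k⁻¹ * X * k) (y := k⁻¹ * Y * k)
    (by rw [map_mul, map_mul, map_inv, hX]; group) (by
      rw [map_mul, map_mul, map_inv]
      have h2 : π X = π k * z0 * (π k)⁻¹ := hX
      have h3 : z0 = (π k)⁻¹ * π X * π k := by rw [h2]; group
      rw [h3]
      calc (π k)⁻¹ * π Y * π k * ((π k)⁻¹ * π X * π k) = (π k)⁻¹ * (π Y * π X) * π k := by group
        _ = (π k)⁻¹ * (π X * π Y) * π k := by rw [h]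
        _ = _ := by group)
  calc X * Y = k * ((k⁻¹ * X * k) * (k⁻¹ * Y * k)) * k⁻¹ := by group
    _ = k * ((k⁻¹ * Y * k) * (k⁻¹ * X * k)) * k⁻¹ := by rw [h1]
    _ = Y * X := by group

/-- The lifts used below. -/
structure Lifts (π : L →* Suz) (F G A B C F' Wb Wc Wf Wt Y E : L) : Prop where
  hF : π F = el [.f]
  hG : π G = el [.g]
  hE : π E = el [.e]
  hWb : π Wb = el wb
  hWc : π Wc = el wc
  hWf : π Wf = el wf
  hWt : π Wt = el wt
  hY : π Y = el (wu ++ wg)
  hA : A = (F * G) * (F * G)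
  hB : B = Wb * A * Wb⁻¹
  hC : C = Wc * A * Wc⁻¹
  hF' : F' = Wf * A * Wf⁻¹

theorem exists_lifts (hD : Dbl π c) : ∃ F G A B C F' Wb Wc Wf Wt Y E : L, Lifts π F G A B C F' Wb Wc Wf Wt Y E := by
  obtain ⟨F, hF⟩ := hD.surj (el [.f])
  obtain ⟨G, hG⟩ := hD.surj (el [.g])
  obtain ⟨E, hE⟩ := hD.surj (el [.e])
  obtain ⟨Wb, hWb⟩ := hD.surj (el wb)
  obtain ⟨Wc, hWc⟩ := hD.surj (el wc)
  obtain ⟨Wf, hWf⟩ := hD.surj (el wf)
  obtain ⟨Wt, hWt⟩ := hD.surj (el wt)
  obtain ⟨Y, hY⟩ := hD.surj (el (wu ++ wg))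
  exact ⟨F, G, _, _, _, _, Wb, Wc, Wf, Wt, Y, E, hF, hG, hE, hWb, hWc, hWf, hWt, hY, rfl, rfl, rfl, rfl⟩

variable {F G A B C F' Wb Wc Wf Wt Y E : L}

theorem pA (H : Lifts π F G A B C F' Wb Wc Wf Wt Y E) : π A = z0 := by
  rw [H.hA, map_mul, map_mul, H.hF, H.hG, ← el_append, ← el_append]
  exact efg

theorem pB (H : Lifts π F G A B C F' Wb Wc Wf Wt Y E) : π B = el [.b] := by
  rw [H.hB, map_mul, map_mul, map_inv, H.hWb, pA H, ← eb, conj_el]

theorem pC (H : Lifts π F G A B C F' Wb Wc Wf Wt Y E) : π C = el [.c] := by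
  rw [H.hC, map_mul, map_mul, map_inv, H.hWc, pA H, ← ec, conj_el]

theorem pF' (H : Lifts π F G A B C F' Wb Wc Wf Wt Y E) : π F' = el [.f] := by
  rw [H.hF', map_mul, map_mul, map_inv, H.hWf, pA H, ← ef, conj_el]

theorem sqA (hD : Dbl π c) (H : Lifts π F G A B C F' Wb Wc Wf Wt Y E) : A * A = 1 := sq_z0 hD (pA H)

theorem sq_conjA (hD : Dbl π c) (H : Lifts π F G A B C F' Wb Wc Wf Wt Y E) (k : L) :
    k * A * k⁻¹ * (k * A * k⁻¹) = 1 := by
  calc k * A * k⁻¹ * (k * A * k⁻¹) = k * (A * A) * k⁻¹ := by group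
    _ = 1 := by rw [sqA hD H]; group

/-- (iii), (iv) -/
theorem braid (hD : Dbl π c) {A k l X Y : L} (hA : π A = z0) (hX : X = k * A * k⁻¹) (hY : Y = l * A * l⁻¹)
    (hXX : X * X = 1) (hYY : Y * Y = 1) (h : π X * π Y * π X = π Y * π X * π Y) : X * Y * X = Y * X * Y := by
  have hXi : X⁻¹ = X := inv_eq_of_mul_eq_one_left hXX
  have hYi : Y⁻¹ = Y := inv_eq_of_mul_eq_one_left hYY
  have h1 := conj_eq hD (A := A) (x := X * l) (y := Y * k) hA (by
    have e1 : X * l * A * (X * l)⁻¹ = X * Y * X := by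
      calc X * l * A * (X * l)⁻¹ = X * (l * A * l⁻¹) * X⁻¹ := by group
        _ = X * Y * X := by rw [← hY, hXi]
    have e2 : Y * k * A * (Y * k)⁻¹ = Y * X * Y := by
      calc Y * k * A * (Y * k)⁻¹ = Y * (k * A * k⁻¹) * Y⁻¹ := by group
        _ = Y * X * Y := by rw [← hX, hYi]
    rw [e1, e2, map_mul, map_mul, map_mul, map_mul]
    exact h)
  calc X * Y * X = X * (l * A * l⁻¹) * X⁻¹ := by rw [← hY, hXi]
    _ = X * l * A * (X * l)⁻¹ := by group
    _ = Y * k * A * (Y * k)⁻¹ := h1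
    _ = Y * (k * A * k⁻¹) * Y⁻¹ := by group
    _ = Y * X * Y := by rw [← hX, hYi]

/-- **The product of the lifts `C`, `F'` is `c` times a conjugate of `A`.** -/
theorem prod_eq (hD : Dbl π c) (H : Lifts π F G A B C F' Wb Wc Wf Wt Y E) :
    C * F' = ((C * B)⁻¹ * Y) * A * ((C * B)⁻¹ * Y)⁻¹ * c := by
  have hBB : B * B = 1 := by rw [H.hB]; exact sq_conjA hD H _
  have hCC : C * C = 1 := by rw [H.hC]; exact sq_conjA hD H _
  have hFF : F' * F' = 1 := by rw [H.hF']; exact sq_conjA hD H _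
  have hBi : B⁻¹ = B := inv_eq_of_mul_eq_one_left hBB
  have hCi : C⁻¹ = C := inv_eq_of_mul_eq_one_left hCC
  have h1 : C * F' = F' * C := by
    refine comm_of hD (g := el wc) (by rw [pC H, ← ec, conj_el]) ?_
    rw [pC H, pF' H, ← el_append, ← el_append]
    exact ecf
  have h2 : C * B * C = B * C * B := braid hD (pA H) H.hC H.hB hCC hBB (by
    rw [pC H, pB H, ← el_append, ← el_append, ← el_append, ← el_append]
    exact ecb)
  have h3 : F' * B * F' = B * F' * B := braid hD (pA H) H.hF' H.hB hFF hBB (by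
    rw [pF' H, pB H, ← el_append, ← el_append, ← el_append, ← el_append]
    exact efb)
  have h4 : (C * F' * B) * (C * F' * B) = (C * B) * (C * F') * (C * B)⁻¹ := by
    rw [mul_inv_rev, hBi, hCi]
    calc (C * F' * B) * (C * F' * B) = C * F' * B * (C * F') * B := by group
      _ = C * F' * B * (F' * C) * B := by rw [← h1]
      _ = C * (F' * B * F') * C * B := by group
      _ = C * B * F' * (B * C * B) := by rw [h3]; group
      _ = C * B * (F' * C) * B * C := by rw [← h2]; group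
      _ = (C * B) * (C * F') * (B * C) := by rw [← h1]; group
  -- the square of `E F G`
  have hEF : F * E = E * F := by
    refine comm_of hD (g := el wf) (by rw [H.hF, ← ef, conj_el]) ?_
    rw [H.hF, H.hE, ← el_append, ← el_append]
    exact eef.symm
  have hEG : G * E = E * G := by
    refine comm_of hD (g := el ([.b, .g] ++ wb)) ?_ ?_
    · rw [H.hG, ← eg]
      have : el [.g, .b] = (el [.b, .g])⁻¹ := el_reverse [.b, .g]
      rw [el_append, el_append, this, ← eb, conj_el, el_append]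
      group
    · rw [H.hG, H.hE, ← el_append, ← el_append]
      exact eeg.symm
  have hEE : E * E = c := sq_e hD (by rw [H.hE]; exact mul_one _)
  have h5 : (E * F * G) * (E * F * G) = c * A := by
    calc (E * F * G) * (E * F * G) = E * F * (G * E) * F * G := by group
      _ = E * (F * E) * G * F * G := by rw [hEG]; group
      _ = (E * E) * ((F * G) * (F * G)) := by rw [hEF]; group
      _ = c * A := by rw [hEE, ← H.hA]
  -- comparison
  have h6 : π (Y * (E * F * G) * Y⁻¹) = π (C * F' * B) := by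
    rw [map_mul, map_mul, map_inv, map_mul, map_mul, map_mul, map_mul, H.hY, H.hE, H.hF, H.hG, pC H, pF' H, pB H,
      ← el_append, ← el_append, ← el_append, ← el_append]
    have := eu
    rw [conj_el] at this
    exact this
  have h7 := sq_lift hD h6
  have h8 : (C * B) * (C * F') * (C * B)⁻¹ = Y * (c * A) * Y⁻¹ := by
    rw [← h4, ← h7, ← h5]
    group
  have h9 : ∀ y, c * y = y * c := hD.cen
  calc C * F' = (C * B)⁻¹ * ((C * B) * (C * F') * (C * B)⁻¹) * (C * B) := by group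
    _ = (C * B)⁻¹ * (Y * (c * A) * Y⁻¹) * (C * B) := by rw [h8]
    _ = (C * B)⁻¹ * Y * (c * (A * Y⁻¹ * (C * B))) := by group
    _ = (C * B)⁻¹ * Y * (A * Y⁻¹ * (C * B) * c) := by rw [h9]
    _ = _ := by group

/-- The triple of labels. -/
theorem triple (hD : Dbl π c) : ∃ y g h : L, π y ∈ Q0 ∧ π (y * y) = z0 ∧
    (y * y) * (g * (y * y) * g⁻¹) = h * (y * y) * h⁻¹ * c := by
  obtain ⟨F, G, A, B, C, F', Wb, Wc, Wf, Wt, Y, E, H⟩ := exists_lifts hD
  refine ⟨F * G, Wc⁻¹ * Wf, Wc⁻¹ * ((C * B)⁻¹ * Y), ?_, ?_, ?_⟩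
  · rw [map_mul, H.hF, H.hG]
    exact Q0.mul_mem (q_mem .k4) (q_mem .k5)
  · rw [← H.hA]; exact pA H
  · rw [← H.hA]
    have h1 := prod_eq hD H
    have h9 : ∀ y, c * y = y * c := hD.cen
    calc A * (Wc⁻¹ * Wf * A * (Wc⁻¹ * Wf)⁻¹) = Wc⁻¹ * ((Wc * A * Wc⁻¹) * (Wf * A * Wf⁻¹)) * Wc := by group
      _ = Wc⁻¹ * (C * F') * Wc := by rw [← H.hC, ← H.hF']
      _ = Wc⁻¹ * ((C * B)⁻¹ * Y) * A * ((C * B)⁻¹ * Y)⁻¹ * (c * Wc) := by rw [h1]; group
      _ = _ := by rw [h9]; group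

/-- The central element in the derived subgroup of the preimage of `L₃(4)`. -/
theorem mem_comm (hD : Dbl π c) :
    c ∈ ⁅KFacts.SuzLFour.L.comap π, KFacts.SuzLFour.L.comap π⁆ := by
  obtain ⟨F, G, A, B, C, F', Wb, Wc, Wf, Wt, Y, E, H⟩ := exists_lifts hD
  set M := KFacts.SuzLFour.L.comap π with hM
  have hFM : F ∈ M := by
    change π F ∈ KFacts.SuzLFour.L
    rw [H.hF]; exact gen_mem_L (by decide)
  have hGM : G ∈ M := by
    change π G ∈ KFacts.SuzLFour.L
    rw [H.hG]; exact gen_mem_L (by decide)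
  have hFF : F * F = 1 := by
    refine sq_of_a hD (g := el wf) ?_
    rw [H.hF, ← ef, conj_el, KFacts.SuzY.z0_eq.symm]
  have hGG : G * G = 1 := by
    refine sq_of_a hD (g := el ([.b, .g] ++ wb)) ?_
    rw [H.hG, ← eg]
    have : el [.g, .b] = (el [.b, .g])⁻¹ := el_reverse [.b, .g]
    rw [el_append, el_append, this, ← eb, conj_el, el_append, ← KFacts.SuzY.z0_eq]
    group
  have hA : A ∈ ⁅M, M⁆ := by
    have h1 : A = ⁅F, G⁆ := by
      rw [commutatorElement_def, inv_eq_of_mul_eq_one_left hFF, inv_eq_of_mul_eq_one_left hGG, H.hA]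
      group
    rw [h1]
    exact commutator_mem_commutator hFM hGM
  have hconj : ∀ k ∈ M, k * A * k⁻¹ ∈ ⁅M, M⁆ := by
    intro k hk
    have h1 : ⁅k, A⁆ ∈ ⁅M, M⁆ := commutator_mem_commutator hk (commutator_le_self M hA)
    have h2 : k * A * k⁻¹ = ⁅k, A⁆ * A := by rw [commutatorElement_def]; group
    rw [h2]
    exact mul_mem h1 hA
  have hWc : Wc ∈ M := by
    change π Wc ∈ KFacts.SuzLFour.L
    rw [H.hWc]; exact word_mem_L (by decide)
  have hWf : Wf ∈ M := by
    change π Wf ∈ KFacts.SuzLFour.L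
    rw [H.hWf]; exact word_mem_L (by decide)
  have hWt : Wt ∈ M := by
    change π Wt ∈ KFacts.SuzLFour.L
    rw [H.hWt]; exact word_mem_L (by decide)
  have h1 := prod_eq hD H
  have hker : π c = 1 := (hD.ker c).2 (Or.inr rfl)
  have h2 : ((C * B)⁻¹ * Y) * A * ((C * B)⁻¹ * Y)⁻¹ = Wt * A * Wt⁻¹ := by
    apply conj_eq hD (pA H)
    have h3 := congrArg π h1
    rw [map_mul, pC H, pF' H, map_mul _ _ c, hker, mul_one, ← el_append] at h3
    rw [← h3, map_mul, map_mul, map_inv, H.hWt, pA H, ← conj_el]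
    exact et.symm
  rw [h2] at h1
  have h3 : c = (Wt * A * Wt⁻¹)⁻¹ * (C * F') := by rw [h1]; group
  have h4 : (Wt * A * Wt⁻¹)⁻¹ * (C * F') ∈ ⁅M, M⁆ := by
    rw [H.hC, H.hF']
    exact mul_mem (inv_mem (hconj _ hWt)) (mul_mem (hconj _ hWc) (hconj _ hWf))
  rw [h3]
  exact h4

end Cfsg.Agent.OddHalf.D9.SuzTriple
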