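import Cfsg.Agent.OddHalf.D9.KillRow
import Cfsg.Agent.OddHalf.D9.Suz.QDSuz
import Cfsg.Agent.OddHalf.D9.Suz.Triple
import Cfsg.Agent.KFacts.SuzInvol

/-!
# D9: the row `2.Suz`
-/

set_option autoImplicit false

namespace Cfsg.Agent.OddHalf.D9.SuzRow

open Subgroup Cfsg Cfsg.Spor Cfsg.Agent.KFacts.MulDef Cfsg.Agent.KFacts.SuzLift.Two Cfsg.Agent.SuzThree.CentA
  Cfsg.Agent.Schreier.Basic
open Cfsg.Agent.SporRec.SuzCl (ia ie)
open scoped commutatorElement

universe u

/-- the Schreier property -/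
theorem sch : Sch Suz := by
  intro C hC
  have hn := conj_range_normal Suz
  set I := (MulAut.conj : Suz →* MulAut Suz).range with hI
  rw [← hC, commutator_le]
  intro α _ β _
  rcases KFacts.SuzOut.out_two α β with h | h | h
  · have h1 : ⁅α, β⁆ = α * (β * α⁻¹ * β⁻¹) := by rw [commutatorElement_def]; group
    rw [h1]
    exact I.mul_mem h (hn.conj_mem _ (I.inv_mem h) β)
  · have h1 : ⁅α, β⁆ = (α * β * α⁻¹) * β⁻¹ := by rw [commutatorElement_def]
    rw [h1]
    exact I.mul_mem (hn.conj_mem _ h α) (I.inv_mem h)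
  · have h1 : ⁅α, β⁆ = (α * (α * (α⁻¹ * β) * α⁻¹) * α⁻¹) * (α * (α⁻¹ * β)⁻¹ * α⁻¹) := by
      rw [commutatorElement_def]; group
    rw [h1]
    exact I.mul_mem (hn.conj_mem _ (hn.conj_mem _ h α) α) (hn.conj_mem _ (I.inv_mem h) α)

/-- **The facts on `2.Suz`.** -/
theorem kf {L : Type u} [Group L] {π : L →* Suz} {c : L} (hD : Dbl π c)
    (hcen : ∀ x : L, (∀ y, x * y = y * x) → x = 1 ∨ x = c) : KillRow.KF c := by
  have hw : ∀ k, π k = ie → k * k = c := fun k hk => sq_e hD hk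
  have hi : ∀ k, π k = z0 → k * k = 1 := fun k hk => sq_z0 hD hk
  refine ⟨Or.inl (Label.pf_of QDSuz.qd hD.sq hD.ne hD.cen π hD.surj hD.ker hw hi (SuzTriple.triple hD)), ?_⟩
  refine OuterOf.outer_of hD.sq hD.ne hD.cen hcen hD.perf π hD.surj hD.ker (w := ie) hw ?_ ?_
  · intro β h1 h2
    exact KFacts.SuzInvol.outer_invol h1 (by
      rintro ⟨s, hs⟩
      exact h2 s hs.symm)
  · refine Label.inn_of hD.sq hD.ne hD.cen π hD.surj hD.ker hi QDSuz.qd.two KFacts.SuzLFour.perfect' ?_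
      ⟨_, map_comap_le _ _, SuzTriple.mem_comm hD⟩
    intro y hy
    have h1 := KFacts.SuzLFour.e0_comm y hy
    have h2 : KFacts.SuzLFour.e0 = ie := mul_one _
    rw [h2] at h1
    exact h1.symm

theorem facts : KillRow.Facts.{u} (fun X _ => IsoSuz X) := by
  intro L _ _ hq h2 hP c hc1 hcc hcz
  obtain ⟨e⟩ := hP
  have hcc' : c ∈ center L := mem_center_iff.2 fun g => (hcz g).symm
  have hcen : ∀ x : L, (∀ y, x * y = y * x) → x = 1 ∨ x = c := by
    intro x hx
    obtain ⟨⟨z, hz⟩, hz1, hzu⟩ := Nat.card_eq_two_iff' (1 : ↥(center L)) |>.1 h2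
    by_cases h1 : x = 1
    · exact Or.inl h1
    · right
      have h3 := hzu ⟨x, mem_center_iff.2 fun g => (hx g).symm⟩ (fun h => h1 (congrArg Subtype.val h))
      have h4 := hzu ⟨c, hcc'⟩ (fun h => hc1 (congrArg Subtype.val h))
      exact congrArg Subtype.val (h3.trans h4.symm)
  refine kf (π := e.toMonoidHom.comp (QuotientGroup.mk' (center L))) ⟨⟨hc1, hcc, hcz, hq.1.commutator_eq_top⟩, ?_, ?_⟩ hcen
  · exact e.surjective.comp (QuotientGroup.mk'_surjective _)
  · intro x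
    rw [MonoidHom.comp_apply]
    change e (QuotientGroup.mk' (center L) x) = 1 ↔ _
    rw [map_eq_one_iff e e.injective, QuotientGroup.mk'_apply, QuotientGroup.eq_one_iff]
    constructor
    · intro hx
      exact hcen x fun y => (mem_center_iff.1 hx y).symm
    · rintro (rfl | rfl)
      · exact one_mem _
      · exact hcc'

/-- **D9, row `2.Suz`.** -/
theorem row : Cut.Row.{u} (fun K _ => Cut.Two (fun X _ => IsoSuz X) K) :=
  KillRow.row_two (fun X _ _ _ _ h => by
    obtain ⟨e⟩ := h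
    exact Sch.of_equiv e.symm sch) facts

end Cfsg.Agent.OddHalf.D9.SuzRow
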